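import Groth.Agent.Lib.OT.Deligne
import Mathlib.AlgebraicGeometry.Group.Affine
import Mathlib.AlgebraicGeometry.Morphisms.FlatRank
import Groth.Prelude.Def_Mor2
import Mathlib.RingTheory.Flat.EquationalCriterion

/-!
Deligne's theorem for group schemes: a commutative finite locally free group scheme of rank `m` over an
affine base is killed by `m`.
-/

universe u

open CategoryTheory AlgebraicGeometry Opposite WithConv MonObj Coalgebra
open scoped TensorProduct

namespace Groth.Agent.Deligne19

set_option backward.isDefEq.respectTransparency.types false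

theorem isCocomm_of_comm {R : CommRingCat.{u}} (H : CommHopfAlgCat.{u} R)
    (hc : ∀ (T : Over (Spec R)) (x y : T ⟶ ((hopfSpec R).obj (op H)).X), x * y = y * x) :
    IsCocomm R H := by
  let iL : H →ₐ[R] H ⊗[R] H := Algebra.TensorProduct.includeLeft
  let iR : H →ₐ[R] H ⊗[R] H := Algebra.TensorProduct.includeRight
  let e := Spec.mapMulEquiv (R := R) (S := H) (T := H ⊗[R] H)
  have h : toConv iL * toConv iR = toConv iR * toConv iL :=
    e.injective (by rw [map_mul, map_mul]; exact hc _ _ _)
  constructor
  apply LinearMap.ext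
  intro a
  have h' := AlgHom.congr_fun (congrArg WithConv.ofConv h) a
  have h1 : (toConv iL * toConv iR).ofConv a = comul (R := R) a := by
    rw [AlgHom.convMul_apply, ← (ℛ R a).eq, map_sum]
    simp [iL, iR]
  have h2 : (toConv iR * toConv iL).ofConv a = TensorProduct.comm R H H (comul (R := R) a) := by
    rw [AlgHom.convMul_apply, ← (ℛ R a).eq, map_sum, map_sum]
    simp [iL, iR]
  rw [LinearMap.comp_apply]
  exact (h2.symm.trans (h'.symm.trans h1))

theorem pow_card_eq_one {R : CommRingCat.{u}} (G : Over (Spec R)) [GrpObj G] [IsCommMonObj G] (m : ℕ)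
    (hG : Mor2.IsFinLocFreeOfDeg m G.hom) : (𝟙 G : G ⟶ G) ^ m = 1 := by
  have := hG.1.1
  have := hG.1.2.1
  have : IsAffine G.left := isAffine_of_isAffineHom G.hom
  obtain ⟨⟨H⟩, ⟨e⟩⟩ := essImage_hopfSpec.2 (show IsAffine (Grp.mk G).X.left from inferInstance)
  let X := ((hopfSpec R).obj (op H)).X
  let f : X ⟶ G := e.hom.hom.hom
  let g : G ⟶ X := e.inv.hom.hom
  have hfg : g ≫ f = 𝟙 G := congrArg (fun k => k.hom.hom) e.inv_hom_id
  have hgf : f ≫ g = 𝟙 X := congrArg (fun k => k.hom.hom) e.hom_inv_id
  have hc : ∀ (T : Over (Spec R)) (x y : T ⟶ X), x * y = y * x := by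
    intro T x y
    have hinj : Function.Injective (fun z : T ⟶ X => z ≫ f) := fun a b h => by
      have := congrArg (· ≫ g) h
      simpa [hgf] using this
    apply hinj
    simp only [MonObj.mul_comp]
    exact _root_.mul_comm _ _
  have : IsCocomm R H := isCocomm_of_comm H hc
  have : IsIso f := ⟨g, hgf, hfg⟩
  have hX : X.hom = f.left ≫ G.hom := (Over.w f).symm
  have hX' : X.hom = Spec.map (CommRingCat.ofHom (algebraMap R H)) := rfl
  have hF : IsFinite X.hom := by rw [hX]; infer_instance
  have hFl : Flat X.hom := by rw [hX]; infer_instance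
  have hL : LocallyOfFinitePresentation X.hom := by
    have := hG.1.2.2; rw [hX]; infer_instance
  rw [hX'] at hF hFl hL
  have : Module.Finite R H := RingHom.finite_algebraMap.mp ((IsFinite.SpecMap_iff _).mp hF)
  have : Module.Flat R H := RingHom.flat_algebraMap_iff.mp (Flat.SpecMap_iff.mp hFl)
  have : Algebra.FinitePresentation R H := RingHom.finitePresentation_algebraMap.mp
    ((HasRingHomProperty.Spec_iff (P := @LocallyOfFinitePresentation)).mp hL)
  have : Module.FinitePresentation R H :=
    Module.FinitePresentation.of_finite_of_finitePresentation _ _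
  have : Module.Projective R H := Module.Flat.projective_of_finitePresentation
  have hr : ∀ p : PrimeSpectrum R, Module.rankAtStalk (R := R) H p = m := by
    intro p
    rw [← Scheme.Hom.finrank_SpecMap_algebraMap R H p, ← hG.2 p]
    have := congrFun (Scheme.Hom.finrank_comp_left_of_isIso f.left G.hom) p
    rw [← hX] at this
    exact this
  have h1 : (𝟙 X : X ⟶ X) ^ m = 1 := by
    let e' := Spec.mapMulEquiv (R := R) (S := H) (T := H)
    have hid : e' (toConv (AlgHom.id R H)) = 𝟙 X := by
      apply Over.OverMorphism.ext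
      exact Spec.map_id _
    have := congrArg e' (Groth.Agent.OT.convPow_eq_one_of_rankAtStalk_eq (R := R) (A := H) m hr)
    rw [map_pow, map_one, hid] at this
    exact this
  have key : ((𝟙 X : X ⟶ X) ^ m) ≫ f = f ^ m := by rw [MonObj.pow_comp, Category.id_comp]
  rw [h1, MonObj.one_comp] at key
  calc (𝟙 G : G ⟶ G) ^ m = g ≫ (f ^ m) := by rw [MonObj.comp_pow, hfg]
    _ = 1 := by rw [← key, MonObj.comp_one]

end Groth.Agent.Deligne19
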